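import Cfsg.Agent.SuzAmCert.Rels
import Cfsg.Agent.StdLThreeFour.RFourAm
import Cfsg.Agent.StdLThreeFour.SRel

/-!
# The relators `AmR` follow from `Am` and `SRel`
-/

set_option autoImplicit false
set_option maxRecDepth 100000
set_option linter.unusedSimpArgs false

namespace Cfsg.Agent.SuzAmCert.OfAm

open Cfsg.Agent.SporadicRecognition.CosetCert Cfsg.Agent.SuzAmCert.Rels
open Cfsg.Agent.StdLThreeFour.RFourAm Cfsg.Agent.StdLThreeFour.SRel

/-! ### Free reduction -/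

/-- prepend a letter and cancel -/
def cns (x : ℕ) : List ℕ → List ℕ
  | [] => [x]
  | y :: t => if Nat.beq (inv10 x) y then t else x :: y :: t

/-- free reduction -/
def fred (w : List ℕ) : List ℕ := w.foldr cns []

/-- formal inverse -/
def finv (w : List ℕ) : List ℕ := (w.map inv10).reverse

/-- formal conjugate -/
def cjL (u v : List ℕ) : List ℕ := finv v ++ u ++ v

/-- formal commutator -/
def cmL (u v : List ℕ) : List ℕ := finv u ++ finv v ++ u ++ v

section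
variable {G : Type*} [Group G] {L : ℕ → G}

theorem ev_cns (h : ∀ n < 10, L n * L (inv10 n) = 1) {x : ℕ} (hx : x < 10) (t : List ℕ) :
    ev L (cns x t) = L x * ev L t := by
  cases t with
  | nil => unfold cns; rw [ev_cons]
  | cons y t =>
    show ev L (if Nat.beq (inv10 x) y then t else x :: y :: t) = _
    by_cases hy : Nat.beq (inv10 x) y
    · rw [if_pos hy, ev_cons, ← Nat.eq_of_beq_eq_true hy, ← mul_assoc, h x hx, one_mul]
    · rw [if_neg hy, ev_cons]

theorem ev_fred (h : ∀ n < 10, L n * L (inv10 n) = 1) {w : List ℕ} (hw : ∀ x ∈ w, x < 10) :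
    ev L (fred w) = ev L w := by
  induction w with
  | nil => rfl
  | cons x w ih =>
    show ev L (cns x (fred w)) = _
    rw [ev_cns h (hw x (by simp)), ih (fun y hy => hw y (by simp [hy])), ev_cons]

theorem ev_finv (h : ∀ n < 10, L n * L (inv10 n) = 1) {w : List ℕ} (hw : ∀ x ∈ w, x < 10) :
    ev L (finv w) = (ev L w)⁻¹ := by
  induction w with
  | nil => simp [finv, ev]
  | cons x w ih =>
    have : finv (x :: w) = finv w ++ [inv10 x] := by simp [finv]
    rw [this, ev_append, ih (fun y hy => hw y (by simp [hy])), ev_cons, ev_cons, ev_nil, mul_one,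
      mul_inv_rev, ← inv_eq_of_mul_eq_one_right (h x (hw x (by simp)))]

theorem ev_cjL (h : ∀ n < 10, L n * L (inv10 n) = 1) {u v : List ℕ} (hv : ∀ x ∈ v, x < 10) :
    ev L (cjL u v) = cj (ev L u) (ev L v) := by
  unfold cjL cj
  rw [ev_append, ev_append, ev_finv h hv]

theorem ev_cmL (h : ∀ n < 10, L n * L (inv10 n) = 1) {u v : List ℕ} (hu : ∀ x ∈ u, x < 10)
    (hv : ∀ x ∈ v, x < 10) : ev L (cmL u v) = cm (ev L u) (ev L v) := by
  unfold cmL cm
  rw [ev_append, ev_append, ev_append, ev_finv h hv, ev_finv h hu]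

/-- letters are less than `10` -/
def lt10 (w : List ℕ) : Bool := w.all fun x => Nat.blt x 10

theorem lt10_sound {w : List ℕ} (h : lt10 w = true) : ∀ x ∈ w, x < 10 := fun x hx =>
  Nat.le_of_ble_eq_true (List.all_eq_true.mp h x hx)

/-- a relator is a conjugate of a source, up to free reduction -/
def okSrc (srcs : List (List ℕ × List ℕ)) (w : List ℕ) : Bool :=
  lt10 w && srcs.any fun p => lt10 p.1 && (lt10 p.2 &&
    decide (fred (finv p.2 ++ (p.1 ++ p.2)) = fred w))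

theorem finv_lt {w : List ℕ} (hw : ∀ x ∈ w, x < 10) : ∀ x ∈ finv w, x < 10 := by
  intro x hx
  unfold finv at hx
  rw [List.mem_reverse, List.mem_map] at hx
  obtain ⟨y, hy, rfl⟩ := hx
  have key : ∀ y < 10, inv10 y < 10 := by decide
  exact key y (hw y hy)

theorem okSrc_sound (h : ∀ n < 10, L n * L (inv10 n) = 1) {srcs : List (List ℕ × List ℕ)}
    (hs : ∀ p ∈ srcs, ev L p.1 = 1) {w : List ℕ} (hw : okSrc srcs w = true) : ev L w = 1 := by
  unfold okSrc at hw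
  rw [Bool.and_eq_true, List.any_eq_true] at hw
  obtain ⟨hw1, p, hp, hq⟩ := hw
  rw [Bool.and_eq_true, Bool.and_eq_true] at hq
  obtain ⟨hp1, hp2, heq⟩ := hq
  have h1 := lt10_sound hp1
  have h2 := lt10_sound hp2
  have e := of_decide_eq_true heq
  have e2 := congrArg (ev L) e
  rw [ev_fred h (lt10_sound hw1), ev_fred h (by
    intro x hx
    rcases List.mem_append.mp hx with hx | hx
    · exact finv_lt h2 x hx
    · rcases List.mem_append.mp hx with hx | hx
      · exact h1 x hx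
      · exact h2 x hx), ev_append, ev_append, hs p hp, one_mul, ev_finv h h2, inv_mul_cancel] at e2
  exact e2.symm

end

/-- the sources and the conjugating words -/
def srcs : List (List ℕ × List ℕ) := [
  ([4] ++ [4] ++ [4], []),
  ([7] ++ [7] ++ [7], []),
  ([4] ++ [0] ++ [4] ++ [0], []),
  ([4] ++ [1] ++ [4] ++ [1], []),
  ([3] ++ [4] ++ [2] ++ [5], []),
  (cmL [2] [3], []),
  (cmL [6] [0], []),
  (cmL [6] [1], []),
  (cmL [6] [2], []),
  (cmL [6] [4], []),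
  (cmL [7] [0], []),
  (cmL [7] [1], []),
  (cmL [7] [2], []),
  (cmL [7] [4], []),
  (cmL [9] [2], []),
  (cmL [9] [3], []),
  ((cmL [6] [9]) ++ [2], []),
  ([0] ++ [1] ++ [0] ++ [1] ++ [0] ++ [1], []),
  ([2] ++ [4] ++ [2] ++ [4] ++ [2] ++ [4], []),
  ([6] ++ [7] ++ [6] ++ [7] ++ [6] ++ [7], []),
  ((finv (cjL [9] [4])) ++ (cjL [9] [7]), []),
  ([7] ++ [9] ++ [7] ++ [9] ++ [7] ++ [9], []),
  (cmL [2] (cjL [2] [1]), []),
  (cmL [3] (cjL [2] [1]), []),
  (cmL [2] (cjL [2] [0]), []),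
  (cmL [3] (cjL [2] [0]), []),
  (cmL [9] (cjL [2] [1]), []),
  (cmL [9] (cjL [3] [1]), []),
  (cmL [9] (cjL [2] [0]), []),
  (cmL [9] (cjL [3] [0]), []),
  ((cmL (cjL [6] [7]) [9]) ++ [3], []),
  ((cmL (cjL [9] [0]) [9]) ++ [3] ++ (cjL [3] [0]), [0]),
  ([2] ++ [0] ++ [1] ++ [0] ++ [2] ++ [0] ++ [1] ++ [0] ++ [2] ++ [0] ++ [1] ++ [0], []),
  ((cmL (cjL [9] [1]) [9]) ++ [2] ++ [3] ++ (cjL [2, 3] [1]), [1]),
  ((cmL (cjL [2] [1]) (cjL [2] [0])) ++ [2], []),
  ((cmL (cjL [3] [1]) (cjL [2] [0])) ++ [3], []),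
  ((cmL (cjL [2] [1]) (cjL [3] [0])) ++ [3], []),
  ((cmL (cjL [3] [1]) (cjL [3] [0])) ++ [2] ++ [3], []),
  ((cmL (cjL [9] [1]) (cjL [9] [8])) ++ [3] ++ (cjL [2] [1]), [1]),
  ((cmL (cjL [9] [0]) (cjL [9] [8])) ++ [2] ++ (cjL [2, 3] [0]), [0]),
  ((cmL (cjL [9] [1]) (cjL [3] [0])) ++ (cjL [9] [8]) ++ [3] ++ (cjL [2] [1]) ++ [6], []),
  ((cmL (cjL [9] [0]) (cjL [2] [1])) ++ [9] ++ [3] ++ (cjL [3] [0]) ++ (cjL [6] [7]), []),
  ((cmL (cjL [9] [1]) (cjL [2] [0])) ++ [9] ++ [2] ++ [3] ++ (cjL [2, 3] [1]) ++ (cjL [6] [8]), []),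
  ((cmL (cjL [9] [0]) (cjL [3] [1])) ++ (cjL [9] [8]) ++ [2] ++ (cjL [2, 3] [0]) ++ (cjL [6] [8]), []),
  ((cjL [9] [1]) ++ (cjL [9] [0, 8]) ++ (cjL [9] [1]) ++ (cjL [9] [0, 8]) ++ (cjL [9] [1]) ++ (cjL [9] [0, 8]), []),
  ((cjL [9] [1]) ++ (cjL [9] [0, 8]) ++ (cjL [9] [1]) ++ [7] ++ (cjL [9] [1]) ++ (cjL [9] [0, 8]) ++ (cjL [9] [1]) ++ [7], []),
  (cmL [7] [0], [8, 0]),
  (cmL [7] [1], [8, 1]),
  (cmL [7] [2], [8, 2]),
  (cmL [7] [4], [8, 5]),
  (cmL (wW) [2], []),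
  (cmL (wW) [3], []),
  ((wW) ++ [4] ++ (wW) ++ [7] ++ [5], []),
  ((wW) ++ [1] ++ [2] ++ [1] ++ (wW) ++ [3] ++ [0] ++ [3] ++ [0], []),
  ((wW) ++ [0] ++ [3] ++ [0] ++ (wW) ++ [3] ++ [1] ++ [2] ++ [1], []),
  ((wW) ++ [1] ++ [3] ++ [1] ++ (wW) ++ [2] ++ [0] ++ [2] ++ [3] ++ [0], []),
  ((wW) ++ [0] ++ [2] ++ [0] ++ (wW) ++ [2] ++ [3] ++ [1] ++ [2] ++ [3] ++ [1], []),
  ((wW) ++ [1] ++ [0] ++ (wW) ++ [0] ++ [1] ++ (wW) ++ [0] ++ [1] ++ (wW) ++ [1] ++ [0], []),
  (cmL [3] (cjL [2] [1]), [3, 1]),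
  (cmL [3] (cjL [2] [0]), [3, 0]),
  (cmL [3] (cjL [3] [1]), []),
  (cmL [3] (cjL [3] [0]), []),
  (cmL [2] [3], [1]),
  (cmL [2] [3], [0]),
  ([3] ++ [4] ++ [2] ++ [5], [3]),
  ([5] ++ (cjL [2] [1]) ++ [4] ++ (cjL [3] [1]), []),
  ([5] ++ (cjL [2] [0]) ++ [4] ++ (cjL [3] [0]), []),
  ([4] ++ [3] ++ [5] ++ [3] ++ [2], []),
  ([5] ++ (cjL [3] [1]) ++ [4] ++ (cjL [3] [1]) ++ (cjL [2] [1]), []),
  ([5] ++ (cjL [3] [0]) ++ [4] ++ (cjL [3] [0]) ++ (cjL [2] [0]), [])]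

theorem ok_all : (relsAll.all fun w => okSrc srcs w) = true := by decide +kernel

section
variable {X : Type*} [Group X] {m n c a t e r y w : X}

/-- the letters -/
def LL (m n c a t e r y : X) : ℕ → X
  | 0 => m | 1 => n | 2 => c | 3 => a | 4 => t | 5 => t⁻¹ | 6 => e | 7 => r | 8 => r⁻¹ | 9 => y | _ => 1

theorem cm_of {x y : X} (h : Commute x y) : cm x y = 1 := by
  unfold cm
  have : x⁻¹ * y⁻¹ * x * y = (y * x)⁻¹ * (x * y) := by group
  rw [this, h.eq, inv_mul_cancel]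

theorem inv_LL (h : Am m n c a t e r y) : ∀ k < 10, LL m n c a t e r y k * LL m n c a t e r y (inv10 k) = 1 := by
  intro k hk
  interval_cases k
  · exact h.m2
  · exact h.n2
  · exact h.c2
  · exact h.a2
  · exact mul_inv_cancel t
  · exact inv_mul_cancel t
  · exact h.e2
  · exact mul_inv_cancel r
  · exact inv_mul_cancel r
  · exact h.y2

theorem srcs_one (h : Am m n c a t e r y) (s : SRel m n c a t r w)
    (hw : w = cj y n * cj y (m * r⁻¹) * cj y n) : ∀ p ∈ srcs, ev (LL m n c a t e r y) p.1 = 1 := by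
  have hi := inv_LL h
  have mi : m⁻¹ = m := inv_eq_of_mul_eq_one_right h.m2
  have ni : n⁻¹ = n := inv_eq_of_mul_eq_one_right h.n2
  have ci : c⁻¹ = c := inv_eq_of_mul_eq_one_right h.c2
  have ai : a⁻¹ = a := inv_eq_of_mul_eq_one_right h.a2
  -- `t c t⁻¹ = a`, `t a t⁻¹ = c a`
  have hca : Commute c a := s.ca
  have tc : t * c * t⁻¹ = a := by
    have h1 : a * (t * c * t⁻¹) = 1 := by rw [← h.act]; group
    rw [← inv_eq_of_mul_eq_one_right h1, ai]
  have t3 : t * t * t = 1 := h.t3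
  have ti : t⁻¹ = t * t := (inv_eq_of_mul_eq_one_right (by rw [← mul_assoc]; exact t3))
  have tca : t * a * t⁻¹ = a * c := by
    have h1 : c * (t * c * t⁻¹) * (t * (t * c * t⁻¹) * t⁻¹) = 1 := by
      calc c * (t * c * t⁻¹) * (t * (t * c * t⁻¹) * t⁻¹)
          = (c * t) * (c * t) * (c * t) * (t * t * t)⁻¹ := by group
        _ = 1 := by rw [h.ct3, t3, inv_one, mul_one]
    rw [tc] at h1
    have h2 := inv_eq_of_mul_eq_one_right h1
    rw [mul_inv_rev, ai, ci] at h2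
    exact h2.symm
  have tic : t⁻¹ * a * t = c := by rw [← tc]; group
  have tia : t⁻¹ * c * t = c * a := by
    have tt : t⁻¹ * t⁻¹ = t := by
      rw [ti]
      calc t * t * (t * t) = (t * t * t) * t := by group
        _ = t := by rw [t3, one_mul]
    have h1 : t⁻¹ * c * t = t * (t * c * t⁻¹) * t⁻¹ := by
      calc t⁻¹ * c * t = t * t * c * t := by rw [ti]
        _ = t * t * c * (t⁻¹ * t⁻¹) := by rw [tt]
        _ = _ := by group
    rw [h1, tc, tca, hca.eq]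
  have nt : t⁻¹ * n = n * t := by
    have h1 : t * (n * t * n) = 1 := by rw [← h.tn2]; group
    rw [inv_eq_of_mul_eq_one_right h1, mul_assoc, h.n2, mul_one]
  have mt : t⁻¹ * m = m * t := by
    have h1 : t * (m * t * m) = 1 := by rw [← h.tm2]; group
    rw [inv_eq_of_mul_eq_one_right h1, mul_assoc, h.m2, mul_one]
  have ei : e⁻¹ = e := inv_eq_of_mul_eq_one_right h.e2
  have yi : y⁻¹ = y := inv_eq_of_mul_eq_one_right h.y2
  subst hw
  have der : ∀ k : X, k * k = 1 → t⁻¹ * k = k * t → Commute c (k * c * k) → Commute a (k * c * k) →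
      Commute a (k * a * k) ∧ t⁻¹ * (k * c * k) * t * (k * a * k) = 1 ∧
      t⁻¹ * (k * a * k) * t * (k * a * k) * (k * c * k) = 1 := by
    intro k k2 kt kc ka
    have tk : t * k = k * t⁻¹ := by
      calc t * k = t * (k * t) * t⁻¹ := by group
        _ = t * (t⁻¹ * k) * t⁻¹ := by rw [kt]
        _ = _ := by group
    have kt' : k * t⁻¹ = t * k := tk.symm
    have key : ∀ x : X, t * (k * x * k) * t⁻¹ = k * (t⁻¹ * x * t) * k := by
      intro x
      calc t * (k * x * k) * t⁻¹ = (t * k) * x * (k * t⁻¹) := by group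
        _ = (k * t⁻¹) * x * (t * k) := by rw [tk]
        _ = _ := by group
    have key' : ∀ x : X, t⁻¹ * (k * x * k) * t = k * (t * x * t⁻¹) * k := by
      intro x
      calc t⁻¹ * (k * x * k) * t = (t⁻¹ * k) * x * (k * t) := by group
        _ = (k * t) * x * (t⁻¹ * k) := by rw [kt]
        _ = _ := by group
    have sq : ∀ x z : X, k * x * k * (k * z * k) = k * (x * z) * k := by
      intro x z
      calc k * x * k * (k * z * k) = k * x * (k * k) * z * k := by group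
        _ = _ := by rw [k2]; group
    refine ⟨?_, ?_, ?_⟩
    · have h1 : Commute a (k * (c * a) * k) := by
        have h2 : t * (c * (k * c * k)) * t⁻¹ = t * ((k * c * k) * c) * t⁻¹ := by rw [kc.eq]
        have h3 : t * (c * (k * c * k)) * t⁻¹ = (t * c * t⁻¹) * (t * (k * c * k) * t⁻¹) := by group
        have h4 : t * ((k * c * k) * c) * t⁻¹ = (t * (k * c * k) * t⁻¹) * (t * c * t⁻¹) := by group
        rw [h3, h4, tc, key, tia] at h2
        exact h2
      have h5 : k * (c * a) * k = (k * c * k) * (k * a * k) := (sq c a).symm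
      rw [h5] at h1
      have h6 : k * a * k = (k * c * k)⁻¹ * ((k * c * k) * (k * a * k)) := by group
      rw [h6]
      exact ka.inv_right.mul_right h1
    · rw [key', tc, sq, h.a2, mul_one, k2]
    · rw [key', tca, sq, sq]
      have : a * c * a * c = 1 := by
        have h7 : a * c = c * a := hca.eq.symm
        calc a * c * a * c = a * (c * a) * c := by group
          _ = a * (a * c) * c := by rw [h7]
          _ = (a * a) * (c * c) := by group
          _ = 1 := by rw [h.a2, h.c2, mul_one]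
      rw [this, mul_one, k2]
  obtain ⟨naa, ntc, nta⟩ := der n h.n2 nt (show Commute c (n * c * n) by
    have := s.ccn; unfold Commute SemiconjBy; rw [this]) (show Commute a (n * c * n) by
    have := s.acn; unfold Commute SemiconjBy; rw [this])
  obtain ⟨maa, mtc, mta⟩ := der m h.m2 mt (show Commute c (m * c * m) by
    have := s.ccm; unfold Commute SemiconjBy; rw [this]) (show Commute a (m * c * m) by
    have := s.acm; unfold Commute SemiconjBy; rw [this])
  have yt : (cj y t)⁻¹ * cj y r = 1 := by rw [h.yt, inv_mul_cancel]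
  have aan : cm a (cj a n) = 1 := by
    apply cm_of; unfold cj; rw [ni]; exact naa
  have aam : cm a (cj a m) = 1 := by
    apply cm_of; unfold cj; rw [mi]; exact maa
  have ta : t * a * t⁻¹ * a * c = 1 := by
    rw [tca]
    have h7 : a * c = c * a := hca.eq.symm
    calc a * c * a * c = a * (c * a) * c := by group
      _ = a * (a * c) * c := by rw [h7]
      _ = (a * a) * (c * c) := by group
      _ = 1 := by rw [h.a2, h.c2, mul_one]
  have tp : t⁻¹ * cj c n * t * cj a n = 1 := by unfold cj; rw [ni]; exact ntc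
  have tq : t⁻¹ * cj a n * t * cj a n * cj c n = 1 := by unfold cj; rw [ni]; exact nta
  have tu : t⁻¹ * cj c m * t * cj a m = 1 := by unfold cj; rw [mi]; exact mtc
  have tv : t⁻¹ * cj a m * t * cj a m * cj c m = 1 := by unfold cj; rw [mi]; exact mta
  have f_t3 : ev (LL m n c a t e r y) ([4] ++ [4] ++ [4]) = 1 := by
    rw [show ([4] ++ [4] ++ [4] : List ℕ) = [4, 4, 4] by decide]
    have this := h.t3
    simp only [cj, cm, mul_inv_rev, inv_inv, mi, ni, ci, ai, ei, yi, mul_assoc] at this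
    simpa only [ev_cons, ev_nil, mul_one, LL] using this
  have f_r3 : ev (LL m n c a t e r y) ([7] ++ [7] ++ [7]) = 1 := by
    rw [show ([7] ++ [7] ++ [7] : List ℕ) = [7, 7, 7] by decide]
    have this := h.r3
    simp only [cj, cm, mul_inv_rev, inv_inv, mi, ni, ci, ai, ei, yi, mul_assoc] at this
    simpa only [ev_cons, ev_nil, mul_one, LL] using this
  have f_tm2 : ev (LL m n c a t e r y) ([4] ++ [0] ++ [4] ++ [0]) = 1 := by
    rw [show ([4] ++ [0] ++ [4] ++ [0] : List ℕ) = [4, 0, 4, 0] by decide]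
    have this := h.tm2
    simp only [cj, cm, mul_inv_rev, inv_inv, mi, ni, ci, ai, ei, yi, mul_assoc] at this
    simpa only [ev_cons, ev_nil, mul_one, LL] using this
  have f_tn2 : ev (LL m n c a t e r y) ([4] ++ [1] ++ [4] ++ [1]) = 1 := by
    rw [show ([4] ++ [1] ++ [4] ++ [1] : List ℕ) = [4, 1, 4, 1] by decide]
    have this := h.tn2
    simp only [cj, cm, mul_inv_rev, inv_inv, mi, ni, ci, ai, ei, yi, mul_assoc] at this
    simpa only [ev_cons, ev_nil, mul_one, LL] using this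
  have f_act : ev (LL m n c a t e r y) ([3] ++ [4] ++ [2] ++ [5]) = 1 := by
    rw [show ([3] ++ [4] ++ [2] ++ [5] : List ℕ) = [3, 4, 2, 5] by decide]
    have this := h.act
    simp only [cj, cm, mul_inv_rev, inv_inv, mi, ni, ci, ai, ei, yi, mul_assoc] at this
    simpa only [ev_cons, ev_nil, mul_one, LL] using this
  have f_ca : ev (LL m n c a t e r y) (cmL [2] [3]) = 1 := by
    rw [show (cmL [2] [3] : List ℕ) = [2, 3, 2, 3] by decide]
    have this := h.ca
    simp only [cj, cm, mul_inv_rev, inv_inv, mi, ni, ci, ai, ei, yi, mul_assoc] at this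
    simpa only [ev_cons, ev_nil, mul_one, LL] using this
  have f_em : ev (LL m n c a t e r y) (cmL [6] [0]) = 1 := by
    rw [show (cmL [6] [0] : List ℕ) = [6, 0, 6, 0] by decide]
    have this := cm_of h.em
    simp only [cj, cm, mul_inv_rev, inv_inv, mi, ni, ci, ai, ei, yi, mul_assoc] at this
    simpa only [ev_cons, ev_nil, mul_one, LL] using this
  have f_en : ev (LL m n c a t e r y) (cmL [6] [1]) = 1 := by
    rw [show (cmL [6] [1] : List ℕ) = [6, 1, 6, 1] by decide]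
    have this := cm_of h.en
    simp only [cj, cm, mul_inv_rev, inv_inv, mi, ni, ci, ai, ei, yi, mul_assoc] at this
    simpa only [ev_cons, ev_nil, mul_one, LL] using this
  have f_ec : ev (LL m n c a t e r y) (cmL [6] [2]) = 1 := by
    rw [show (cmL [6] [2] : List ℕ) = [6, 2, 6, 2] by decide]
    have this := cm_of h.ec
    simp only [cj, cm, mul_inv_rev, inv_inv, mi, ni, ci, ai, ei, yi, mul_assoc] at this
    simpa only [ev_cons, ev_nil, mul_one, LL] using this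
  have f_et : ev (LL m n c a t e r y) (cmL [6] [4]) = 1 := by
    rw [show (cmL [6] [4] : List ℕ) = [6, 5, 6, 4] by decide]
    have this := cm_of h.et
    simp only [cj, cm, mul_inv_rev, inv_inv, mi, ni, ci, ai, ei, yi, mul_assoc] at this
    simpa only [ev_cons, ev_nil, mul_one, LL] using this
  have f_rm : ev (LL m n c a t e r y) (cmL [7] [0]) = 1 := by
    rw [show (cmL [7] [0] : List ℕ) = [8, 0, 7, 0] by decide]
    have this := cm_of h.rm
    simp only [cj, cm, mul_inv_rev, inv_inv, mi, ni, ci, ai, ei, yi, mul_assoc] at this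
    simpa only [ev_cons, ev_nil, mul_one, LL] using this
  have f_rn : ev (LL m n c a t e r y) (cmL [7] [1]) = 1 := by
    rw [show (cmL [7] [1] : List ℕ) = [8, 1, 7, 1] by decide]
    have this := cm_of h.rn
    simp only [cj, cm, mul_inv_rev, inv_inv, mi, ni, ci, ai, ei, yi, mul_assoc] at this
    simpa only [ev_cons, ev_nil, mul_one, LL] using this
  have f_rc : ev (LL m n c a t e r y) (cmL [7] [2]) = 1 := by
    rw [show (cmL [7] [2] : List ℕ) = [8, 2, 7, 2] by decide]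
    have this := cm_of h.rc
    simp only [cj, cm, mul_inv_rev, inv_inv, mi, ni, ci, ai, ei, yi, mul_assoc] at this
    simpa only [ev_cons, ev_nil, mul_one, LL] using this
  have f_rt : ev (LL m n c a t e r y) (cmL [7] [4]) = 1 := by
    rw [show (cmL [7] [4] : List ℕ) = [8, 5, 7, 4] by decide]
    have this := cm_of h.rt
    simp only [cj, cm, mul_inv_rev, inv_inv, mi, ni, ci, ai, ei, yi, mul_assoc] at this
    simpa only [ev_cons, ev_nil, mul_one, LL] using this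
  have f_yc : ev (LL m n c a t e r y) (cmL [9] [2]) = 1 := by
    rw [show (cmL [9] [2] : List ℕ) = [9, 2, 9, 2] by decide]
    have this := cm_of h.yc
    simp only [cj, cm, mul_inv_rev, inv_inv, mi, ni, ci, ai, ei, yi, mul_assoc] at this
    simpa only [ev_cons, ev_nil, mul_one, LL] using this
  have f_ya : ev (LL m n c a t e r y) (cmL [9] [3]) = 1 := by
    rw [show (cmL [9] [3] : List ℕ) = [9, 3, 9, 3] by decide]
    have this := cm_of h.ya
    simp only [cj, cm, mul_inv_rev, inv_inv, mi, ni, ci, ai, ei, yi, mul_assoc] at this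
    simpa only [ev_cons, ev_nil, mul_one, LL] using this
  have f_ey : ev (LL m n c a t e r y) ((cmL [6] [9]) ++ [2]) = 1 := by
    rw [show ((cmL [6] [9]) ++ [2] : List ℕ) = [6, 9, 6, 9, 2] by decide]
    have this := h.ey
    simp only [cj, cm, mul_inv_rev, inv_inv, mi, ni, ci, ai, ei, yi, mul_assoc] at this
    simpa only [ev_cons, ev_nil, mul_one, LL] using this
  have f_mn3 : ev (LL m n c a t e r y) ([0] ++ [1] ++ [0] ++ [1] ++ [0] ++ [1]) = 1 := by
    rw [show ([0] ++ [1] ++ [0] ++ [1] ++ [0] ++ [1] : List ℕ) = [0, 1, 0, 1, 0, 1] by decide]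
    have this := h.mn3
    simp only [cj, cm, mul_inv_rev, inv_inv, mi, ni, ci, ai, ei, yi, mul_assoc] at this
    simpa only [ev_cons, ev_nil, mul_one, LL] using this
  have f_ct3 : ev (LL m n c a t e r y) ([2] ++ [4] ++ [2] ++ [4] ++ [2] ++ [4]) = 1 := by
    rw [show ([2] ++ [4] ++ [2] ++ [4] ++ [2] ++ [4] : List ℕ) = [2, 4, 2, 4, 2, 4] by decide]
    have this := h.ct3
    simp only [cj, cm, mul_inv_rev, inv_inv, mi, ni, ci, ai, ei, yi, mul_assoc] at this
    simpa only [ev_cons, ev_nil, mul_one, LL] using this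
  have f_er3 : ev (LL m n c a t e r y) ([6] ++ [7] ++ [6] ++ [7] ++ [6] ++ [7]) = 1 := by
    rw [show ([6] ++ [7] ++ [6] ++ [7] ++ [6] ++ [7] : List ℕ) = [6, 7, 6, 7, 6, 7] by decide]
    have this := h.er3
    simp only [cj, cm, mul_inv_rev, inv_inv, mi, ni, ci, ai, ei, yi, mul_assoc] at this
    simpa only [ev_cons, ev_nil, mul_one, LL] using this
  have f_yt : ev (LL m n c a t e r y) ((finv (cjL [9] [4])) ++ (cjL [9] [7])) = 1 := by
    rw [show ((finv (cjL [9] [4])) ++ (cjL [9] [7]) : List ℕ) = [5, 9, 4, 8, 9, 7] by decide]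
    have this := yt
    simp only [cj, cm, mul_inv_rev, inv_inv, mi, ni, ci, ai, ei, yi, mul_assoc] at this
    simpa only [ev_cons, ev_nil, mul_one, LL] using this
  have f_ry3 : ev (LL m n c a t e r y) ([7] ++ [9] ++ [7] ++ [9] ++ [7] ++ [9]) = 1 := by
    rw [show ([7] ++ [9] ++ [7] ++ [9] ++ [7] ++ [9] : List ℕ) = [7, 9, 7, 9, 7, 9] by decide]
    have this := h.ry3
    simp only [cj, cm, mul_inv_rev, inv_inv, mi, ni, ci, ai, ei, yi, mul_assoc] at this
    simpa only [ev_cons, ev_nil, mul_one, LL] using this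
  have f_ccn : ev (LL m n c a t e r y) (cmL [2] (cjL [2] [1])) = 1 := by
    rw [show (cmL [2] (cjL [2] [1]) : List ℕ) = [2, 1, 2, 1, 2, 1, 2, 1] by decide]
    have this := h.ccn
    simp only [cj, cm, mul_inv_rev, inv_inv, mi, ni, ci, ai, ei, yi, mul_assoc] at this
    simpa only [ev_cons, ev_nil, mul_one, LL] using this
  have f_acn : ev (LL m n c a t e r y) (cmL [3] (cjL [2] [1])) = 1 := by
    rw [show (cmL [3] (cjL [2] [1]) : List ℕ) = [3, 1, 2, 1, 3, 1, 2, 1] by decide]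
    have this := h.acn
    simp only [cj, cm, mul_inv_rev, inv_inv, mi, ni, ci, ai, ei, yi, mul_assoc] at this
    simpa only [ev_cons, ev_nil, mul_one, LL] using this
  have f_ccm : ev (LL m n c a t e r y) (cmL [2] (cjL [2] [0])) = 1 := by
    rw [show (cmL [2] (cjL [2] [0]) : List ℕ) = [2, 0, 2, 0, 2, 0, 2, 0] by decide]
    have this := h.ccm
    simp only [cj, cm, mul_inv_rev, inv_inv, mi, ni, ci, ai, ei, yi, mul_assoc] at this
    simpa only [ev_cons, ev_nil, mul_one, LL] using this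
  have f_acm : ev (LL m n c a t e r y) (cmL [3] (cjL [2] [0])) = 1 := by
    rw [show (cmL [3] (cjL [2] [0]) : List ℕ) = [3, 0, 2, 0, 3, 0, 2, 0] by decide]
    have this := h.acm
    simp only [cj, cm, mul_inv_rev, inv_inv, mi, ni, ci, ai, ei, yi, mul_assoc] at this
    simpa only [ev_cons, ev_nil, mul_one, LL] using this
  have f_ycn : ev (LL m n c a t e r y) (cmL [9] (cjL [2] [1])) = 1 := by
    rw [show (cmL [9] (cjL [2] [1]) : List ℕ) = [9, 1, 2, 1, 9, 1, 2, 1] by decide]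
    have this := cm_of h.ycn
    simp only [cj, cm, mul_inv_rev, inv_inv, mi, ni, ci, ai, ei, yi, mul_assoc] at this
    simpa only [ev_cons, ev_nil, mul_one, LL] using this
  have f_yan : ev (LL m n c a t e r y) (cmL [9] (cjL [3] [1])) = 1 := by
    rw [show (cmL [9] (cjL [3] [1]) : List ℕ) = [9, 1, 3, 1, 9, 1, 3, 1] by decide]
    have this := cm_of h.yan
    simp only [cj, cm, mul_inv_rev, inv_inv, mi, ni, ci, ai, ei, yi, mul_assoc] at this
    simpa only [ev_cons, ev_nil, mul_one, LL] using this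
  have f_ycm : ev (LL m n c a t e r y) (cmL [9] (cjL [2] [0])) = 1 := by
    rw [show (cmL [9] (cjL [2] [0]) : List ℕ) = [9, 0, 2, 0, 9, 0, 2, 0] by decide]
    have this := cm_of h.ycm
    simp only [cj, cm, mul_inv_rev, inv_inv, mi, ni, ci, ai, ei, yi, mul_assoc] at this
    simpa only [ev_cons, ev_nil, mul_one, LL] using this
  have f_yam : ev (LL m n c a t e r y) (cmL [9] (cjL [3] [0])) = 1 := by
    rw [show (cmL [9] (cjL [3] [0]) : List ℕ) = [9, 0, 3, 0, 9, 0, 3, 0] by decide]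
    have this := cm_of h.yam
    simp only [cj, cm, mul_inv_rev, inv_inv, mi, ni, ci, ai, ei, yi, mul_assoc] at this
    simpa only [ev_cons, ev_nil, mul_one, LL] using this
  have f_ery : ev (LL m n c a t e r y) ((cmL (cjL [6] [7]) [9]) ++ [3]) = 1 := by
    rw [show ((cmL (cjL [6] [7]) [9]) ++ [3] : List ℕ) = [8, 6, 7, 9, 8, 6, 7, 9, 3] by decide]
    have this := h.ery
    simp only [cj, cm, mul_inv_rev, inv_inv, mi, ni, ci, ai, ei, yi, mul_assoc] at this
    simpa only [ev_cons, ev_nil, mul_one, LL] using this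
  have f_e2a : ev (LL m n c a t e r y) ((cmL (cjL [9] [0]) [9]) ++ [3] ++ (cjL [3] [0])) = 1 := by
    rw [show ((cmL (cjL [9] [0]) [9]) ++ [3] ++ (cjL [3] [0]) : List ℕ) = [0, 9, 0, 9, 0, 9, 0, 9, 3, 0, 3, 0] by decide]
    have this := h.e2a
    simp only [cj, cm, mul_inv_rev, inv_inv, mi, ni, ci, ai, ei, yi, mul_assoc] at this
    simpa only [ev_cons, ev_nil, mul_one, LL] using this
  have f_cmnm : ev (LL m n c a t e r y) ([2] ++ [0] ++ [1] ++ [0] ++ [2] ++ [0] ++ [1] ++ [0] ++ [2] ++ [0] ++ [1] ++ [0]) = 1 := by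
    rw [show ([2] ++ [0] ++ [1] ++ [0] ++ [2] ++ [0] ++ [1] ++ [0] ++ [2] ++ [0] ++ [1] ++ [0] : List ℕ) = [2, 0, 1, 0, 2, 0, 1, 0, 2, 0, 1, 0] by decide]
    have this := h.cmnm
    simp only [cj, cm, mul_inv_rev, inv_inv, mi, ni, ci, ai, ei, yi, mul_assoc] at this
    simpa only [ev_cons, ev_nil, mul_one, LL] using this
  have f_e1a : ev (LL m n c a t e r y) ((cmL (cjL [9] [1]) [9]) ++ [2] ++ [3] ++ (cjL [2, 3] [1])) = 1 := by
    rw [show ((cmL (cjL [9] [1]) [9]) ++ [2] ++ [3] ++ (cjL [2, 3] [1]) : List ℕ) = [1, 9, 1, 9, 1, 9, 1, 9, 2, 3, 1, 2, 3, 1] by decide]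
    have this := h.e1a
    simp only [cj, cm, mul_inv_rev, inv_inv, mi, ni, ci, ai, ei, yi, mul_assoc] at this
    simpa only [ev_cons, ev_nil, mul_one, LL] using this
  have f_cncm : ev (LL m n c a t e r y) ((cmL (cjL [2] [1]) (cjL [2] [0])) ++ [2]) = 1 := by
    rw [show ((cmL (cjL [2] [1]) (cjL [2] [0])) ++ [2] : List ℕ) = [1, 2, 1, 0, 2, 0, 1, 2, 1, 0, 2, 0, 2] by decide]
    have this := h.cncm
    simp only [cj, cm, mul_inv_rev, inv_inv, mi, ni, ci, ai, ei, yi, mul_assoc] at this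
    simpa only [ev_cons, ev_nil, mul_one, LL] using this
  have f_ancm : ev (LL m n c a t e r y) ((cmL (cjL [3] [1]) (cjL [2] [0])) ++ [3]) = 1 := by
    rw [show ((cmL (cjL [3] [1]) (cjL [2] [0])) ++ [3] : List ℕ) = [1, 3, 1, 0, 2, 0, 1, 3, 1, 0, 2, 0, 3] by decide]
    have this := h.ancm
    simp only [cj, cm, mul_inv_rev, inv_inv, mi, ni, ci, ai, ei, yi, mul_assoc] at this
    simpa only [ev_cons, ev_nil, mul_one, LL] using this
  have f_cnam : ev (LL m n c a t e r y) ((cmL (cjL [2] [1]) (cjL [3] [0])) ++ [3]) = 1 := by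
    rw [show ((cmL (cjL [2] [1]) (cjL [3] [0])) ++ [3] : List ℕ) = [1, 2, 1, 0, 3, 0, 1, 2, 1, 0, 3, 0, 3] by decide]
    have this := h.cnam
    simp only [cj, cm, mul_inv_rev, inv_inv, mi, ni, ci, ai, ei, yi, mul_assoc] at this
    simpa only [ev_cons, ev_nil, mul_one, LL] using this
  have f_anam : ev (LL m n c a t e r y) ((cmL (cjL [3] [1]) (cjL [3] [0])) ++ [2] ++ [3]) = 1 := by
    rw [show ((cmL (cjL [3] [1]) (cjL [3] [0])) ++ [2] ++ [3] : List ℕ) = [1, 3, 1, 0, 3, 0, 1, 3, 1, 0, 3, 0, 2, 3] by decide]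
    have this := h.anam
    simp only [cj, cm, mul_inv_rev, inv_inv, mi, ni, ci, ai, ei, yi, mul_assoc] at this
    simpa only [ev_cons, ev_nil, mul_one, LL] using this
  have f_e1b : ev (LL m n c a t e r y) ((cmL (cjL [9] [1]) (cjL [9] [8])) ++ [3] ++ (cjL [2] [1])) = 1 := by
    rw [show ((cmL (cjL [9] [1]) (cjL [9] [8])) ++ [3] ++ (cjL [2] [1]) : List ℕ) = [1, 9, 1, 7, 9, 8, 1, 9, 1, 7, 9, 8, 3, 1, 2, 1] by decide]
    have this := h.e1b
    simp only [cj, cm, mul_inv_rev, inv_inv, mi, ni, ci, ai, ei, yi, mul_assoc] at this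
    simpa only [ev_cons, ev_nil, mul_one, LL] using this
  have f_e2b : ev (LL m n c a t e r y) ((cmL (cjL [9] [0]) (cjL [9] [8])) ++ [2] ++ (cjL [2, 3] [0])) = 1 := by
    rw [show ((cmL (cjL [9] [0]) (cjL [9] [8])) ++ [2] ++ (cjL [2, 3] [0]) : List ℕ) = [0, 9, 0, 7, 9, 8, 0, 9, 0, 7, 9, 8, 2, 0, 2, 3, 0] by decide]
    have this := h.e2b
    simp only [cj, cm, mul_inv_rev, inv_inv, mi, ni, ci, ai, ei, yi, mul_assoc] at this
    simpa only [ev_cons, ev_nil, mul_one, LL] using this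
  have f_e1d : ev (LL m n c a t e r y) ((cmL (cjL [9] [1]) (cjL [3] [0])) ++ (cjL [9] [8]) ++ [3] ++ (cjL [2] [1]) ++ [6]) = 1 := by
    rw [show ((cmL (cjL [9] [1]) (cjL [3] [0])) ++ (cjL [9] [8]) ++ [3] ++ (cjL [2] [1]) ++ [6] : List ℕ) = [1, 9, 1, 0, 3, 0, 1, 9, 1, 0, 3, 0, 7, 9, 8, 3, 1, 2, 1, 6] by decide]
    have this := h.e1d
    simp only [cj, cm, mul_inv_rev, inv_inv, mi, ni, ci, ai, ei, yi, mul_assoc] at this
    simpa only [ev_cons, ev_nil, mul_one, LL] using this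
  have f_e2c : ev (LL m n c a t e r y) ((cmL (cjL [9] [0]) (cjL [2] [1])) ++ [9] ++ [3] ++ (cjL [3] [0]) ++ (cjL [6] [7])) = 1 := by
    rw [show ((cmL (cjL [9] [0]) (cjL [2] [1])) ++ [9] ++ [3] ++ (cjL [3] [0]) ++ (cjL [6] [7]) : List ℕ) = [0, 9, 0, 1, 2, 1, 0, 9, 0, 1, 2, 1, 9, 3, 0, 3, 0, 8, 6, 7] by decide]
    have this := h.e2c
    simp only [cj, cm, mul_inv_rev, inv_inv, mi, ni, ci, ai, ei, yi, mul_assoc] at this
    simpa only [ev_cons, ev_nil, mul_one, LL] using this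
  have f_e1c : ev (LL m n c a t e r y) ((cmL (cjL [9] [1]) (cjL [2] [0])) ++ [9] ++ [2] ++ [3] ++ (cjL [2, 3] [1]) ++ (cjL [6] [8])) = 1 := by
    rw [show ((cmL (cjL [9] [1]) (cjL [2] [0])) ++ [9] ++ [2] ++ [3] ++ (cjL [2, 3] [1]) ++ (cjL [6] [8]) : List ℕ) = [1, 9, 1, 0, 2, 0, 1, 9, 1, 0, 2, 0, 9, 2, 3, 1, 2, 3, 1, 7, 6, 8] by decide]
    have this := h.e1c
    simp only [cj, cm, mul_inv_rev, inv_inv, mi, ni, ci, ai, ei, yi, mul_assoc] at this
    simpa only [ev_cons, ev_nil, mul_one, LL] using this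
  have f_e2d : ev (LL m n c a t e r y) ((cmL (cjL [9] [0]) (cjL [3] [1])) ++ (cjL [9] [8]) ++ [2] ++ (cjL [2, 3] [0]) ++ (cjL [6] [8])) = 1 := by
    rw [show ((cmL (cjL [9] [0]) (cjL [3] [1])) ++ (cjL [9] [8]) ++ [2] ++ (cjL [2, 3] [0]) ++ (cjL [6] [8]) : List ℕ) = [0, 9, 0, 1, 3, 1, 0, 9, 0, 1, 3, 1, 7, 9, 8, 2, 0, 2, 3, 0, 7, 6, 8] by decide]
    have this := h.e2d
    simp only [cj, cm, mul_inv_rev, inv_inv, mi, ni, ci, ai, ei, yi, mul_assoc] at this
    simpa only [ev_cons, ev_nil, mul_one, LL] using this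
  have f_pq3 : ev (LL m n c a t e r y) ((cjL [9] [1]) ++ (cjL [9] [0, 8]) ++ (cjL [9] [1]) ++ (cjL [9] [0, 8]) ++ (cjL [9] [1]) ++ (cjL [9] [0, 8])) = 1 := by
    rw [show ((cjL [9] [1]) ++ (cjL [9] [0, 8]) ++ (cjL [9] [1]) ++ (cjL [9] [0, 8]) ++ (cjL [9] [1]) ++ (cjL [9] [0, 8]) : List ℕ) = [1, 9, 1, 7, 0, 9, 0, 8, 1, 9, 1, 7, 0, 9, 0, 8, 1, 9, 1, 7, 0, 9, 0, 8] by decide]
    have this := h.pq3
    simp only [cj, cm, mul_inv_rev, inv_inv, mi, ni, ci, ai, ei, yi, mul_assoc] at this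
    simpa only [ev_cons, ev_nil, mul_one, LL] using this
  have f_pqpr : ev (LL m n c a t e r y) ((cjL [9] [1]) ++ (cjL [9] [0, 8]) ++ (cjL [9] [1]) ++ [7] ++ (cjL [9] [1]) ++ (cjL [9] [0, 8]) ++ (cjL [9] [1]) ++ [7]) = 1 := by
    rw [show ((cjL [9] [1]) ++ (cjL [9] [0, 8]) ++ (cjL [9] [1]) ++ [7] ++ (cjL [9] [1]) ++ (cjL [9] [0, 8]) ++ (cjL [9] [1]) ++ [7] : List ℕ) = [1, 9, 1, 7, 0, 9, 0, 8, 1, 9, 1, 7, 1, 9, 1, 7, 0, 9, 0, 8, 1, 9, 1, 7] by decide]
    have this := h.pqpr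
    simp only [cj, cm, mul_inv_rev, inv_inv, mi, ni, ci, ai, ei, yi, mul_assoc] at this
    simpa only [ev_cons, ev_nil, mul_one, LL] using this
  have f_wc : ev (LL m n c a t e r y) (cmL (wW) [2]) = 1 := by
    rw [show (cmL (wW) [2] : List ℕ) = [1, 9, 1, 7, 0, 9, 0, 8, 1, 9, 1, 2, 1, 9, 1, 7, 0, 9, 0, 8, 1, 9, 1, 2] by decide]
    have this := cm_of s.wc
    simp only [cj, cm, mul_inv_rev, inv_inv, mi, ni, ci, ai, ei, yi, mul_assoc] at this
    simpa only [ev_cons, ev_nil, mul_one, LL] using this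
  have f_wa : ev (LL m n c a t e r y) (cmL (wW) [3]) = 1 := by
    rw [show (cmL (wW) [3] : List ℕ) = [1, 9, 1, 7, 0, 9, 0, 8, 1, 9, 1, 3, 1, 9, 1, 7, 0, 9, 0, 8, 1, 9, 1, 3] by decide]
    have this := cm_of s.wa
    simp only [cj, cm, mul_inv_rev, inv_inv, mi, ni, ci, ai, ei, yi, mul_assoc] at this
    simpa only [ev_cons, ev_nil, mul_one, LL] using this
  have f_wt : ev (LL m n c a t e r y) ((wW) ++ [4] ++ (wW) ++ [7] ++ [5]) = 1 := by
    rw [show ((wW) ++ [4] ++ (wW) ++ [7] ++ [5] : List ℕ) = [1, 9, 1, 7, 0, 9, 0, 8, 1, 9, 1, 4, 1, 9, 1, 7, 0, 9, 0, 8, 1, 9, 1, 7, 5] by decide]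
    have this := s.wt
    simp only [cj, cm, mul_inv_rev, inv_inv, mi, ni, ci, ai, ei, yi, mul_assoc] at this
    simpa only [ev_cons, ev_nil, mul_one, LL] using this
  have f_wcn : ev (LL m n c a t e r y) ((wW) ++ [1] ++ [2] ++ [1] ++ (wW) ++ [3] ++ [0] ++ [3] ++ [0]) = 1 := by
    rw [show ((wW) ++ [1] ++ [2] ++ [1] ++ (wW) ++ [3] ++ [0] ++ [3] ++ [0] : List ℕ) = [1, 9, 1, 7, 0, 9, 0, 8, 1, 9, 1, 1, 2, 1, 1, 9, 1, 7, 0, 9, 0, 8, 1, 9, 1, 3, 0, 3, 0] by decide]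
    have this := s.wcn
    simp only [cj, cm, mul_inv_rev, inv_inv, mi, ni, ci, ai, ei, yi, mul_assoc] at this
    simpa only [ev_cons, ev_nil, mul_one, LL] using this
  have f_wam : ev (LL m n c a t e r y) ((wW) ++ [0] ++ [3] ++ [0] ++ (wW) ++ [3] ++ [1] ++ [2] ++ [1]) = 1 := by
    rw [show ((wW) ++ [0] ++ [3] ++ [0] ++ (wW) ++ [3] ++ [1] ++ [2] ++ [1] : List ℕ) = [1, 9, 1, 7, 0, 9, 0, 8, 1, 9, 1, 0, 3, 0, 1, 9, 1, 7, 0, 9, 0, 8, 1, 9, 1, 3, 1, 2, 1] by decide]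
    have this := s.wam
    simp only [cj, cm, mul_inv_rev, inv_inv, mi, ni, ci, ai, ei, yi, mul_assoc] at this
    simpa only [ev_cons, ev_nil, mul_one, LL] using this
  have f_wan : ev (LL m n c a t e r y) ((wW) ++ [1] ++ [3] ++ [1] ++ (wW) ++ [2] ++ [0] ++ [2] ++ [3] ++ [0]) = 1 := by
    rw [show ((wW) ++ [1] ++ [3] ++ [1] ++ (wW) ++ [2] ++ [0] ++ [2] ++ [3] ++ [0] : List ℕ) = [1, 9, 1, 7, 0, 9, 0, 8, 1, 9, 1, 1, 3, 1, 1, 9, 1, 7, 0, 9, 0, 8, 1, 9, 1, 2, 0, 2, 3, 0] by decide]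
    have this := s.wan
    simp only [cj, cm, mul_inv_rev, inv_inv, mi, ni, ci, ai, ei, yi, mul_assoc] at this
    simpa only [ev_cons, ev_nil, mul_one, LL] using this
  have f_wcm : ev (LL m n c a t e r y) ((wW) ++ [0] ++ [2] ++ [0] ++ (wW) ++ [2] ++ [3] ++ [1] ++ [2] ++ [3] ++ [1]) = 1 := by
    rw [show ((wW) ++ [0] ++ [2] ++ [0] ++ (wW) ++ [2] ++ [3] ++ [1] ++ [2] ++ [3] ++ [1] : List ℕ) = [1, 9, 1, 7, 0, 9, 0, 8, 1, 9, 1, 0, 2, 0, 1, 9, 1, 7, 0, 9, 0, 8, 1, 9, 1, 2, 3, 1, 2, 3, 1] by decide]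
    have this := s.wcm
    simp only [cj, cm, mul_inv_rev, inv_inv, mi, ni, ci, ai, ei, yi, mul_assoc] at this
    simpa only [ev_cons, ev_nil, mul_one, LL] using this
  have f_www : ev (LL m n c a t e r y) ((wW) ++ [1] ++ [0] ++ (wW) ++ [0] ++ [1] ++ (wW) ++ [0] ++ [1] ++ (wW) ++ [1] ++ [0]) = 1 := by
    rw [show ((wW) ++ [1] ++ [0] ++ (wW) ++ [0] ++ [1] ++ (wW) ++ [0] ++ [1] ++ (wW) ++ [1] ++ [0] : List ℕ) = [1, 9, 1, 7, 0, 9, 0, 8, 1, 9, 1, 1, 0, 1, 9, 1, 7, 0, 9, 0, 8, 1, 9, 1, 0, 1, 1, 9, 1, 7, 0, 9, 0, 8, 1, 9, 1, 0, 1, 1, 9, 1, 7, 0, 9, 0, 8, 1, 9, 1, 1, 0] by decide]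
    have this := s.www
    simp only [cj, cm, mul_inv_rev, inv_inv, mi, ni, ci, ai, ei, yi, mul_assoc] at this
    simpa only [ev_cons, ev_nil, mul_one, LL] using this
  have f_aan : ev (LL m n c a t e r y) (cmL [3] (cjL [3] [1])) = 1 := by
    rw [show (cmL [3] (cjL [3] [1]) : List ℕ) = [3, 1, 3, 1, 3, 1, 3, 1] by decide]
    have this := aan
    simp only [cj, cm, mul_inv_rev, inv_inv, mi, ni, ci, ai, ei, yi, mul_assoc] at this
    simpa only [ev_cons, ev_nil, mul_one, LL] using this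
  have f_aam : ev (LL m n c a t e r y) (cmL [3] (cjL [3] [0])) = 1 := by
    rw [show (cmL [3] (cjL [3] [0]) : List ℕ) = [3, 0, 3, 0, 3, 0, 3, 0] by decide]
    have this := aam
    simp only [cj, cm, mul_inv_rev, inv_inv, mi, ni, ci, ai, ei, yi, mul_assoc] at this
    simpa only [ev_cons, ev_nil, mul_one, LL] using this
  have f_tp : ev (LL m n c a t e r y) ([5] ++ (cjL [2] [1]) ++ [4] ++ (cjL [3] [1])) = 1 := by
    rw [show ([5] ++ (cjL [2] [1]) ++ [4] ++ (cjL [3] [1]) : List ℕ) = [5, 1, 2, 1, 4, 1, 3, 1] by decide]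
    have this := tp
    simp only [cj, cm, mul_inv_rev, inv_inv, mi, ni, ci, ai, ei, yi, mul_assoc] at this
    simpa only [ev_cons, ev_nil, mul_one, LL] using this
  have f_tu : ev (LL m n c a t e r y) ([5] ++ (cjL [2] [0]) ++ [4] ++ (cjL [3] [0])) = 1 := by
    rw [show ([5] ++ (cjL [2] [0]) ++ [4] ++ (cjL [3] [0]) : List ℕ) = [5, 0, 2, 0, 4, 0, 3, 0] by decide]
    have this := tu
    simp only [cj, cm, mul_inv_rev, inv_inv, mi, ni, ci, ai, ei, yi, mul_assoc] at this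
    simpa only [ev_cons, ev_nil, mul_one, LL] using this
  have f_ta : ev (LL m n c a t e r y) ([4] ++ [3] ++ [5] ++ [3] ++ [2]) = 1 := by
    rw [show ([4] ++ [3] ++ [5] ++ [3] ++ [2] : List ℕ) = [4, 3, 5, 3, 2] by decide]
    have this := ta
    simp only [cj, cm, mul_inv_rev, inv_inv, mi, ni, ci, ai, ei, yi, mul_assoc] at this
    simpa only [ev_cons, ev_nil, mul_one, LL] using this
  have f_tq : ev (LL m n c a t e r y) ([5] ++ (cjL [3] [1]) ++ [4] ++ (cjL [3] [1]) ++ (cjL [2] [1])) = 1 := by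
    rw [show ([5] ++ (cjL [3] [1]) ++ [4] ++ (cjL [3] [1]) ++ (cjL [2] [1]) : List ℕ) = [5, 1, 3, 1, 4, 1, 3, 1, 1, 2, 1] by decide]
    have this := tq
    simp only [cj, cm, mul_inv_rev, inv_inv, mi, ni, ci, ai, ei, yi, mul_assoc] at this
    simpa only [ev_cons, ev_nil, mul_one, LL] using this
  have f_tv : ev (LL m n c a t e r y) ([5] ++ (cjL [3] [0]) ++ [4] ++ (cjL [3] [0]) ++ (cjL [2] [0])) = 1 := by
    rw [show ([5] ++ (cjL [3] [0]) ++ [4] ++ (cjL [3] [0]) ++ (cjL [2] [0]) : List ℕ) = [5, 0, 3, 0, 4, 0, 3, 0, 0, 2, 0] by decide]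
    have this := tv
    simp only [cj, cm, mul_inv_rev, inv_inv, mi, ni, ci, ai, ei, yi, mul_assoc] at this
    simpa only [ev_cons, ev_nil, mul_one, LL] using this
  intro p hp
  simp only [srcs, List.mem_cons, List.not_mem_nil, or_false] at hp
  rcases hp with rfl | rfl | rfl | rfl | rfl | rfl | rfl | rfl | rfl | rfl | rfl | rfl | rfl | rfl | rfl | rfl | rfl | rfl | rfl | rfl | rfl | rfl | rfl | rfl | rfl | rfl | rfl | rfl | rfl | rfl | rfl | rfl | rfl | rfl | rfl | rfl | rfl | rfl | rfl | rfl | rfl | rfl | rfl | rfl | rfl | rfl | rfl | rfl | rfl | rfl | rfl | rfl | rfl | rfl | rfl | rfl | rfl | rfl | rfl | rfl | rfl | rfl | rfl | rfl | rfl | rfl | rfl | rfl | rfl | rfl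
  · exact f_t3
  · exact f_r3
  · exact f_tm2
  · exact f_tn2
  · exact f_act
  · exact f_ca
  · exact f_em
  · exact f_en
  · exact f_ec
  · exact f_et
  · exact f_rm
  · exact f_rn
  · exact f_rc
  · exact f_rt
  · exact f_yc
  · exact f_ya
  · exact f_ey
  · exact f_mn3
  · exact f_ct3
  · exact f_er3
  · exact f_yt
  · exact f_ry3
  · exact f_ccn
  · exact f_acn
  · exact f_ccm
  · exact f_acm
  · exact f_ycn
  · exact f_yan
  · exact f_ycm
  · exact f_yam
  · exact f_ery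
  · exact f_e2a
  · exact f_cmnm
  · exact f_e1a
  · exact f_cncm
  · exact f_ancm
  · exact f_cnam
  · exact f_anam
  · exact f_e1b
  · exact f_e2b
  · exact f_e1d
  · exact f_e2c
  · exact f_e1c
  · exact f_e2d
  · exact f_pq3
  · exact f_pqpr
  · exact f_rm
  · exact f_rn
  · exact f_rc
  · exact f_rt
  · exact f_wc
  · exact f_wa
  · exact f_wt
  · exact f_wcn
  · exact f_wam
  · exact f_wan
  · exact f_wcm
  · exact f_www
  · exact f_acn
  · exact f_acm
  · exact f_aan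
  · exact f_aam
  · exact f_ca
  · exact f_ca
  · exact f_act
  · exact f_tp
  · exact f_tu
  · exact f_ta
  · exact f_tq
  · exact f_tv

/-- **The relators `AmR` follow from `Am` and `SRel`.** -/
theorem amR (h : Am m n c a t e r y) (s : SRel m n c a t r w)
    (hw : w = cj y n * cj y (m * r⁻¹) * cj y n) : AmR (LL m n c a t e r y) where
  inv := inv_LL h
  rel := by
    intro x hx
    exact okSrc_sound (inv_LL h) (srcs_one h s hw) (List.all_eq_true.mp ok_all x hx)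

end

end Cfsg.Agent.SuzAmCert.OfAm
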