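import Cfsg.Agent.SuzAmCert.Ident
import Cfsg.Agent.SuzAmCert.OfAm
import Cfsg.Agent.StdLThreeFour.MInpOf
import Cfsg.Agent.StdLThreeFour.RhoSRelCj

/-!
# Standard `L3(4)`, case `|R| = 4`: the embedding of `Suz`
-/

set_option autoImplicit false

namespace Cfsg.Agent.SuzAmCert.Phi

open Cfsg.Agent.StdLThreeFour Cfsg.Agent.SuzAmCert.Model Cfsg.Agent.SuzAmCert.OfAm
open Cfsg.Agent.StdLThreeFour.RFourAm Cfsg.Agent.StdLThreeFour.SRel

/-- **The embedding of the presented Suzuki group**, from the relators. -/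
theorem exists_phi {X : Type*} [Group X] {m n c a t e r y w : X} (h : Am m n c a t e r y)
    (s : SRel m n c a t r w) (hw : w = cj y n * cj y (m * r⁻¹) * cj y n) (hc : c ≠ 1) :
    ∃ φ : Cfsg.Spor.Suz →* X, MInpOf.Phi m n c a t e r y φ := by
  obtain ⟨φ, h1, h2, h3⟩ := Ident.exists_hom (OfAm.amR h s hw) ⟨2, by norm_num, hc⟩
  refine ⟨φ, ?_⟩
  exact
    { inj := h1
      fa := h2 3 (by norm_num)
      fc := h2 2 (by norm_num)
      fe := h2 6 (by norm_num)
      fm := h2 0 (by norm_num)
      fn := h2 1 (by norm_num)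
      ft := h2 4 (by norm_num)
      fr := h2 7 (by norm_num)
      fy := h2 9 (by norm_num)
      rng := by
        rw [h3, Subgroup.closure_le]
        rintro _ ⟨k, hk, rfl⟩
        have hk' : k < 10 := hk
        interval_cases k
        · exact Subgroup.subset_closure (by simp [LL])
        · exact Subgroup.subset_closure (by simp [LL])
        · exact Subgroup.subset_closure (by simp [LL])
        · exact Subgroup.subset_closure (by simp [LL])
        · exact Subgroup.subset_closure (by simp [LL])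
        · exact Subgroup.inv_mem _ (Subgroup.subset_closure (by simp))
        · exact Subgroup.subset_closure (by simp [LL])
        · exact Subgroup.subset_closure (by simp [LL])
        · exact Subgroup.inv_mem _ (Subgroup.subset_closure (by simp))
        · exact Subgroup.subset_closure (by simp [LL]) }

open Cfsg.Agent.StdLThreeFour.Base Cfsg.Agent.StdLThreeFour.RFourDefs Cfsg.Agent.StdLThreeFour.RFourU
open Cfsg.Agent.StdLThreeFour.RFourRhoB Cfsg.Agent.SporadicA.FieldFour Cfsg.Agent.ONType.Psl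

/-- **The embedding of the presented Suzuki group**, from the structure `Rho`. -/
theorem phi_of_rho {X : Type*} [Group X] {ι : L0 →* X} {r n : F4 → X} {ρ : X} (R : Rho ι r n ρ) :
    ∃ φ : Cfsg.Spor.Suz →* X, MInpOf.Phi (ι (nn 0 1)) (ι (nn 1 2)) (ι (t 0 2 1)) (ι (t 0 2 ω))
      (ι hh) (r 1) ρ (n 1) φ := by
  refine exists_phi (am R) (RhoSRelCj.srel R) rfl ?_
  intro hc
  have h1 : (t 0 2 1 : L0) = 1 := R.hyp.t.toROne.inj (by rw [hc, map_one])
  have h2 : (1 : F4) = 0 := (Cfsg.Agent.ONType.PslCard.t_inj (a := 0) (b := 0) (c := 1) (a' := 0) (b' := 0) (c' := 0)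
    (by rw [t_zero, t_zero, t_zero, one_mul, one_mul, one_mul]; exact h1)).2.2
  exact absurd h2 (by decide)

end Cfsg.Agent.SuzAmCert.Phi
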