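import Cfsg.Agent.SuzAmCert.AChk0
import Cfsg.Agent.SuzAmCert.AChk1
import Cfsg.Agent.SuzAmCert.AChk2
import Cfsg.Agent.SuzAmCert.AChk3
import Cfsg.Agent.SuzAmCert.AChk4
import Cfsg.Agent.SuzAmCert.AChk5
import Cfsg.Agent.SuzAmCert.AChk6
import Cfsg.Agent.SuzAmCert.AChk7

set_option autoImplicit false
set_option maxRecDepth 100000

namespace Cfsg.Agent.SuzAmCert.AAll

open Cfsg.Agent.SporadicRecognition.CosetCert Cfsg.Agent.SuzAmCert.AData

theorem part : Part C 0 C.N 22880 := (((((((Cfsg.Agent.SuzAmCert.AChk0.all).append C Cfsg.Agent.SuzAmCert.AChk1.all).append C Cfsg.Agent.SuzAmCert.AChk2.all).append C Cfsg.Agent.SuzAmCert.AChk3.all).append C Cfsg.Agent.SuzAmCert.AChk4.all).append C Cfsg.Agent.SuzAmCert.AChk5.all).append C Cfsg.Agent.SuzAmCert.AChk6.all).append C Cfsg.Agent.SuzAmCert.AChk7.all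

end Cfsg.Agent.SuzAmCert.AAll
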