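import Cfsg.Agent.SuzAmCert.Rels
import Cfsg.Agent.SuzAmCert.AAll
import Cfsg.Agent.SuzAmCert.BAll
import Cfsg.Agent.SuzAmCert.DAll
import Cfsg.Agent.SuzAmCert.EAll
import Cfsg.Agent.HeldHe.FastHyp

/-!
# A group generated by ten letters satisfying `AmR` has order at most `448345497600`
-/

set_option autoImplicit false
set_option maxRecDepth 100000

namespace Cfsg.Agent.SuzAmCert.Bound

open Cfsg.Agent.SporadicRecognition.CosetCert Cfsg.Agent.SporadicRecognition.CosetCertHyp
  Cfsg.Agent.SporadicRecognition.CosetChain Cfsg.Agent.SuzAmCert.Rels Cfsg.Agent.HeldHe.FastHyp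

variable {G : Type*} [Group G]

/-- Boolean check of the letter bounds -/
def ltAll (k : ℕ) (rs : List (List ℕ)) : Bool := rs.all fun r => r.all fun l => Nat.blt l k

theorem lt_of_ltAll {k : ℕ} {rs : List (List ℕ)} (h : ltAll k rs = true) : ∀ r ∈ rs, ∀ l ∈ r, l < k := by
  intro r hr l hl
  unfold ltAll at h
  exact Nat.le_of_ble_eq_true (List.all_eq_true.mp (List.all_eq_true.mp h r hr) l hl)

/-- the letters of the fourth table -/
def LE (L : ℕ → G) (n : ℕ) : G := ev L (exE n)

/-- the letters of the second table -/
def LB (L : ℕ → G) (n : ℕ) : G := ev L (exB n)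

theorem ev_one (L : ℕ → G) (n : ℕ) : ev L [n] = L n := by rw [ev_cons, ev_nil, mul_one]

theorem inv_conj (L : ℕ → G) (h : AmR L) {i j : ℕ} (hi : i < 2) (hj : j = 2 ∨ j = 3) :
    ev L [i, j, i] * ev L [i, j, i] = 1 := by
  have h1 : L i * L i = 1 := by
    have := h.inv i (by omega)
    interval_cases i <;> simpa [inv10] using this
  have h2 : L j * L j = 1 := by
    have := h.inv j (by omega)
    rcases hj with rfl | rfl <;> simpa [inv10] using this
  have e : ev L [i, j, i] = L i * (L j * L i) := by simp [ev]
  rw [e]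
  calc L i * (L j * L i) * (L i * (L j * L i)) = L i * (L j * (L i * L i) * L j) * L i := by group
    _ = 1 := by rw [h1, mul_one, h2, mul_one, h1]

theorem checkE : chk EData.C.inv EData.C.k relsE EData.C.words EData.ctree = true := by decide +kernel

theorem checkE' : ST.allB (okSub EData.C.inv EData.C.k []) EData.C.subs = true := by decide +kernel

theorem card_E {L : ℕ → G} (h : AmR L) :
    Finite (Subgroup.closure (LE L '' {n | n < 8})) ∧
      Nat.card (Subgroup.closure (LE L '' {n | n < 8})) ≤ 192 := by
  have := bound EData.C (LE L) (⊥ : Subgroup G) relsE [] EData.ctree EAll.part (by decide +kernel)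
    (by
      intro n hn
      have hn' : n < 8 := hn
      have i2 : L 2 * L 2 = 1 := h.inv 2 (by norm_num)
      have i3 : L 3 * L 3 = 1 := h.inv 3 (by norm_num)
      have i4 : L 4 * L 5 = 1 := h.inv 4 (by norm_num)
      have i5 : L 5 * L 4 = 1 := h.inv 5 (by norm_num)
      interval_cases n
      · exact ⟨by decide, by show ev L [2] * ev L [2] = 1; rw [ev_one]; exact i2⟩
      · exact ⟨by decide, by show ev L [3] * ev L [3] = 1; rw [ev_one]; exact i3⟩
      · exact ⟨by decide, inv_conj L h (by norm_num) (Or.inl rfl)⟩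
      · exact ⟨by decide, inv_conj L h (by norm_num) (Or.inr rfl)⟩
      · exact ⟨by decide, inv_conj L h (by norm_num) (Or.inl rfl)⟩
      · exact ⟨by decide, inv_conj L h (by norm_num) (Or.inr rfl)⟩
      · exact ⟨by decide, by show ev L [4] * ev L [5] = 1; rw [ev_one, ev_one]; exact i4⟩
      · exact ⟨by decide, by show ev L [5] * ev L [4] = 1; rw [ev_one, ev_one]; exact i5⟩)
    (lt_of_ltAll (by decide +kernel)) h.relE (by simp) (by simp) checkE checkE'
  refine ⟨this.1, this.2.trans ?_⟩
  rw [Nat.card_eq_one_iff_unique.mpr ⟨inferInstance, inferInstance⟩]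

/-- the subgroup words of the third table -/
def sD : List (List ℕ) := [[2], [3], [1, 2, 1], [1, 3, 1], [0, 2, 0], [0, 3, 0], [4]]

theorem checkD : chk DData.C.inv DData.C.k relsD DData.C.words DData.ctree = true := by decide +kernel

theorem checkD' : ST.allB (okSub DData.C.inv DData.C.k sD) DData.C.subs = true := by decide +kernel

theorem inv_lt (L : ℕ → G) (h : AmR L) {n : ℕ} (hn : n < 10) : L n * L (inv10 n) = 1 := h.inv n hn

theorem card_D {L : ℕ → G} (h : AmR L) :
    Finite (Subgroup.closure (L '' {n | n < 6})) ∧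
      Nat.card (Subgroup.closure (L '' {n | n < 6})) ≤ 20160 := by
  obtain ⟨h1, h2⟩ := card_E h
  have := bound DData.C L (Subgroup.closure (LE L '' {n | n < 8})) relsD sD DData.ctree DAll.part
    (by decide +kernel)
    (by
      intro n hn
      have hn' : n < 6 := hn
      have := h.inv n (by omega)
      interval_cases n
      · exact ⟨by decide, this⟩
      · exact ⟨by decide, this⟩
      · exact ⟨by decide, this⟩
      · exact ⟨by decide, this⟩
      · exact ⟨by decide, this⟩
      · exact ⟨by decide, this⟩)
    (lt_of_ltAll (by decide +kernel)) h.relD (lt_of_ltAll (by decide +kernel))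
    (by
      intro r hr
      have key : ∀ r ∈ sD, ∃ l < 8, r = exE l := by decide +kernel
      obtain ⟨l, hl, rfl⟩ := key r hr
      exact Subgroup.subset_closure ⟨l, hl, rfl⟩)
    checkD checkD'
  exact ⟨this.1, this.2.trans (by omega)⟩

/-- the subgroup words of the second table -/
def sB : List (List ℕ) := [[0], [1], [2], [3], [4]]

theorem checkB : chk BData.C.inv BData.C.k relsB BData.C.words BData.ctree = true := by decide +kernel

theorem checkB' : ST.allB (okSub BData.C.inv BData.C.k sB) BData.C.subs = true := by decide +kernel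

theorem inv_w (L : ℕ → G) (h : AmR L) : ev L wW * ev L wW = 1 := by
  have i0 : ∀ x, L 0 * (L 0 * x) = x := fun x => by
    rw [← mul_assoc, show L 0 * L 0 = 1 from h.inv 0 (by norm_num), one_mul]
  have i1 : ∀ x, L 1 * (L 1 * x) = x := fun x => by
    rw [← mul_assoc, show L 1 * L 1 = 1 from h.inv 1 (by norm_num), one_mul]
  have i9 : ∀ x, L 9 * (L 9 * x) = x := fun x => by
    rw [← mul_assoc, show L 9 * L 9 = 1 from h.inv 9 (by norm_num), one_mul]
  have i78 : ∀ x, L 7 * (L 8 * x) = x := fun x => by
    rw [← mul_assoc, show L 7 * L 8 = 1 from h.inv 7 (by norm_num), one_mul]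
  have i87 : ∀ x, L 8 * (L 7 * x) = x := fun x => by
    rw [← mul_assoc, show L 8 * L 7 = 1 from h.inv 8 (by norm_num), one_mul]
  have i1' : L 1 * L 1 = 1 := h.inv 1 (by norm_num)
  have e : ev L wW = L 1 * (L 9 * (L 1 * (L 7 * (L 0 * (L 9 * (L 0 * (L 8 * (L 1 * (L 9 * L 1))))))))) := by
    simp [ev, wW]
  rw [e]
  simp only [mul_assoc, i0, i1, i9, i78, i87, i1']

theorem card_B {L : ℕ → G} (h : AmR L) :
    Finite (Subgroup.closure (LB L '' {n | n < 9})) ∧
      Nat.card (Subgroup.closure (LB L '' {n | n < 9})) ≤ 19595520 := by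
  obtain ⟨h1, h2⟩ := card_D h
  have := bound BData.C (LB L) (Subgroup.closure (L '' {n | n < 6})) relsB sB BData.ctree BAll.part
    (by decide +kernel)
    (by
      intro n hn
      have hn' : n < 9 := hn
      have hw := inv_w L h
      interval_cases n
      · exact ⟨by decide, by show ev L [0] * ev L [0] = 1; rw [ev_one]; exact h.inv 0 (by norm_num)⟩
      · exact ⟨by decide, by show ev L [1] * ev L [1] = 1; rw [ev_one]; exact h.inv 1 (by norm_num)⟩
      · exact ⟨by decide, by show ev L [2] * ev L [2] = 1; rw [ev_one]; exact h.inv 2 (by norm_num)⟩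
      · exact ⟨by decide, by show ev L [3] * ev L [3] = 1; rw [ev_one]; exact h.inv 3 (by norm_num)⟩
      · exact ⟨by decide, by show ev L [4] * ev L [5] = 1; rw [ev_one, ev_one]; exact h.inv 4 (by norm_num)⟩
      · exact ⟨by decide, by show ev L [5] * ev L [4] = 1; rw [ev_one, ev_one]; exact h.inv 5 (by norm_num)⟩
      · exact ⟨by decide, by show ev L [7] * ev L [8] = 1; rw [ev_one, ev_one]; exact h.inv 7 (by norm_num)⟩
      · exact ⟨by decide, by show ev L [8] * ev L [7] = 1; rw [ev_one, ev_one]; exact h.inv 8 (by norm_num)⟩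
      · exact ⟨by decide, hw⟩)
    (lt_of_ltAll (by decide +kernel)) h.relB (lt_of_ltAll (by decide +kernel))
    (by
      intro r hr
      have key : ∀ r ∈ sB, ∃ l < 6, r = [l] ∧ exB l = [l] := by decide +kernel
      obtain ⟨l, hl, rfl, hl2⟩ := key r hr
      rw [ev_one]
      show ev L (exB l) ∈ _
      rw [hl2, ev_one]
      exact Subgroup.subset_closure ⟨l, hl, rfl⟩)
    checkB checkB'
  exact ⟨this.1, this.2.trans (by omega)⟩

/-- the subgroup words of the first table -/
def sA : List (List ℕ) := [[0], [1], [2], [4], [7], wW]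

theorem checkA : chk AData.C.inv AData.C.k relsA AData.C.words AData.ctree = true := by decide +kernel

theorem checkA' : ST.allB (okSub AData.C.inv AData.C.k sA) AData.C.subs = true := by decide +kernel

/-- **A group generated by ten letters satisfying the relations has order at most `448345497600`.** -/
theorem card_le {L : ℕ → G} (h : AmR L) :
    Finite (Subgroup.closure (L '' {n | n < 10})) ∧
      Nat.card (Subgroup.closure (L '' {n | n < 10})) ≤ 448345497600 := by
  obtain ⟨h1, h2⟩ := card_B h
  have := bound AData.C L (Subgroup.closure (LB L '' {n | n < 9})) relsA sA AData.ctree AAll.part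
    (by decide +kernel)
    (by
      intro n hn
      have hn' : n < 10 := hn
      have := h.inv n hn'
      interval_cases n
      · exact ⟨by decide, this⟩
      · exact ⟨by decide, this⟩
      · exact ⟨by decide, this⟩
      · exact ⟨by decide, this⟩
      · exact ⟨by decide, this⟩
      · exact ⟨by decide, this⟩
      · exact ⟨by decide, this⟩
      · exact ⟨by decide, this⟩
      · exact ⟨by decide, this⟩
      · exact ⟨by decide, this⟩)
    (lt_of_ltAll (by decide +kernel)) h.relA (lt_of_ltAll (by decide +kernel))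
    (by
      intro r hr
      have key : ∀ r ∈ sA, ∃ l < 9, r = exB l := by decide +kernel
      obtain ⟨l, hl, rfl⟩ := key r hr
      exact Subgroup.subset_closure ⟨l, hl, rfl⟩)
    checkA checkA'
  exact ⟨this.1, this.2.trans (by omega)⟩

end Cfsg.Agent.SuzAmCert.Bound
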