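import Cfsg.Agent.SuzAmCert.DData

set_option autoImplicit false
set_option maxRecDepth 100000
set_option Elab.async false

namespace Cfsg.Agent.SuzAmCert.DChk0

open Cfsg.Agent.SporadicRecognition.CosetCert Cfsg.Agent.SuzAmCert.DData

theorem c0 : Part C 0 64 63 := runChunk_sound C 63 (by decide +kernel : runChunk C 11 2047 0x6650d5180200274c0100100400931a230023cc0109322640c51802002008011530040080100200210c010000008cc0080004600c010023e600419802004008f980100400801001366008010014064cc89843046008010020040040100100400931a230023cc0109322640c51802002008f1802004008012133e6005d2143002e91d21530043cd2980100440e1a1430030d0c9c340043cd29801226008010012460080100200450c0089300470c01002004004011a3004004918020040080114300224cc1802004008010012c600829943002008010020043cc918010045cc010012464cc01002004004918020040080114300224c011d30040080100100454c29943002008010020043cc91801366008010012460080100200450c008933c600801002004004c980200400491933004008010f3004008009030043cc01002226004518020020088990300404c0100200210c01003004008418010043cc918e300240c010f3004008898011460080080222640c0101318634c0084300400c01002106004010f3004008009030043cc918b3226004518020020088990300404c0100200210c010030c61cc418010a60080089300400829802004004010020a60080089300400829802004004010020a600800893004008298020040040100206600801002002008198020040080084304600801002004004010030aa1140100100404c1a8250020080106502a01401002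 10 1023 0x2730000000000000000000000000000000000000000000000000000000000000000000000000000000000000000000000000000000000000000000000000000000000000000000000000 0 64 = 64)

theorem c1 : Part C 64 107 42 := runChunk_sound C 42 (by decide +kernel : runChunk C 11 2047 0x149802002008010020040080100100400949802002008010020a6008008023665cc01002004004010020a650c008020045cc010014068cc010020023cd618020040094980200224d3190300400800ab35a600829943004004d99730a63cd0180100454c010024060080080200400401002004008008f300424c01103146008008023c670c0114300224cf18020043cc010010040082980200238c012230a6008010013c654c01002004008f98010660080089300470c298020040048980252600801002002008010034060080100100400491802004008008f30048cc898020040080089330674c010020040040100200400501802004008010010044cc010020023cc0100200440c518130020080117300400801001004008010014060080100200400401133004008008f30040088980214600c0080236600829813004a0c00843004000002330000040100200400800843004008010013665cc010014064ccb1903 10 1023 0x90c0000000 64 43 = 43)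

theorem all : Part C 0 107 105 := (c0).append C c1

end Cfsg.Agent.SuzAmCert.DChk0
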