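import Cfsg.Agent.SuzAmCert.Rels
import Cfsg.Agent.StdLThreeFour.OutTau

/-!
# The ten letters in the presented Suzuki group
-/

set_option autoImplicit false
set_option maxRecDepth 100000

namespace Cfsg.Agent.SuzAmCert.Model

open Cfsg.Spor Cfsg.Agent.SporadicRecognition.SuzPhi Cfsg.Agent.SporadicRecognition.SuzOrder
open Cfsg.Agent.SporRec.SuzCl Cfsg.Agent.StdLThreeFour.OutTau
open Cfsg.Agent.SporadicRecognition.CosetCert Cfsg.Agent.SuzAmCert.Rels

/-- the letters as words in the generators -/
def W : ℕ → List Suz.Gen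
  | 0 => [.f, .a, .b, .c, .a, .b, .g, .b, .c, .b, .a, .b, .f, .a]
  | 1 => [.a, .b, .f, .g, .b, .c, .a, .b, .g, .f, .b, .a]
  | 2 => [.c]
  | 3 => [.a]
  | 4 => [.b, .a, .b, .c, .a, .b]
  | 5 => [.b, .a, .c, .b, .a, .b]
  | 6 => [.e]
  | 7 => [.c, .b, .e, .d, .c, .d, .b, .a, .b, .c, .d, .a, .b, .c, .d, .e, .c, .b, .a, .b, .a]
  | 8 => [.a, .b, .a, .b, .c, .e, .d, .c, .b, .a, .d, .c, .b, .a, .b, .d, .c, .d, .e, .b, .c]
  | 9 => [.b, .a, .c, .b, .a, .d, .b, .c, .d, .e, .d, .c, .d, .a, .b, .a, .b, .c, .a, .b]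
  | _ => []

/-- the generators as words in the letters -/
def V : Suz.Gen → List ℕ
  | .a => [3]
  | .b => [0, 1, 0, 2, 0, 1, 0]
  | .c => [2]
  | .d => [7, 0, 1, 2, 1, 0, 2, 0, 1, 9, 1, 7, 0, 9, 0, 8, 1, 9, 0, 9, 0, 9, 1, 7, 0, 9, 0, 8, 1, 9, 1, 0, 2, 0, 1, 2,
      1, 0, 8]
  | .e => [6]
  | .f => [1, 2, 1, 2]
  | .g => [2, 0, 3, 0]

/-- the ten letters in the presented Suzuki group -/
noncomputable def L0 (n : ℕ) : Suz := el (W n)

theorem ev_L0 (r : List ℕ) : ev L0 r = el ((r.map W).flatten) := by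
  induction r with
  | nil => rw [ev_nil]; rfl
  | cons x r ih => rw [ev_cons, ih, List.map_cons, List.flatten_cons, el_app]; rfl

/-- check of a relator on the base -/
noncomputable def okRel (r : List ℕ) : Bool := eqW ((r.map W).flatten) []

theorem okRel_sound {r : List ℕ} (h : okRel r = true) : ev L0 r = 1 := by
  rw [ev_L0]
  exact (eq_of_eqW h).trans el_nil

/-- check of a list of relators -/
noncomputable def okAll (rs : List (List ℕ)) : Bool :=
  List.rec (motive := fun _ => Bool) true (fun r _ ih => Bool.rec false ih (okRel r)) rs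

theorem okAll_sound {rs : List (List ℕ)} (h : okAll rs = true) : ∀ r ∈ rs, ev L0 r = 1 := by
  induction rs with
  | nil => simp
  | cons a rs ih =>
    have h' : (Bool.rec false (okAll rs) (okRel a) : Bool) = true := h
    rcases ha : okRel a with _ | _
    · rw [ha] at h'; exact absurd (show false = true from h') (by simp)
    rw [ha] at h'
    intro r hr
    rcases List.mem_cons.mp hr with rfl | hr
    · exact okRel_sound ha
    · exact ih h' r hr

/-- the pairs of mutually inverse letters -/
def invs : List (List ℕ) := [[0,0],[1,1],[2,2],[3,3],[4,5],[5,4],[6,6],[7,8],[8,7],[9,9]]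

theorem okInv : okAll invs = true := by decide +kernel

theorem okRels : okAll relsAll = true := by decide +kernel

/-- **The letters satisfy the relations.** -/
theorem amR : AmR L0 where
  inv := by
    intro n hn
    have h := okAll_sound okInv [n, inv10 n] (by
      have key : ∀ n < 10, [n, inv10 n] ∈ invs := by decide +kernel
      exact key n hn)
    rwa [ev_cons, ev_cons, ev_nil, mul_one] at h
  rel := okAll_sound okRels

/-- the letter words for the generators -/
noncomputable def okGen (x : Suz.Gen) : Bool := eqW (((V x).map W).flatten) [x]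

theorem okGen_all (x : Suz.Gen) : okGen x = true := by
  cases x <;> decide +kernel

theorem ev_V (x : Suz.Gen) : ev L0 (V x) = PresentedGroup.of x := by
  rw [ev_L0, eq_of_eqW (okGen_all x), el_one]

theorem V_lt (x : Suz.Gen) : ∀ l ∈ V x, l < 10 := by
  cases x <;> decide

/-- **The letters generate the presented Suzuki group.** -/
theorem closure_L0 : Subgroup.closure (L0 '' {n | n < 10}) = ⊤ := by
  rw [eq_top_iff, ← PresentedGroup.closure_range_of, Subgroup.closure_le]
  rintro _ ⟨x, rfl⟩
  rw [← ev_V]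
  unfold ev
  refine Subgroup.list_prod_mem _ ?_
  intro y hy
  obtain ⟨l, hl, rfl⟩ := List.mem_map.mp hy
  exact Subgroup.subset_closure ⟨l, V_lt x l hl, rfl⟩

end Cfsg.Agent.SuzAmCert.Model
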