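import Cfsg.Agent.SuzAmCert.Bound
import Cfsg.Agent.SuzAmCert.Model
import Cfsg.Agent.Held.Letters

/-!
# Letters satisfying `AmR` generate a copy of the presented Suzuki group
-/

set_option autoImplicit false

namespace Cfsg.Agent.SuzAmCert.Ident

open Cfsg.Agent.SporadicRecognition.CosetCert Cfsg.Agent.SuzAmCert.Rels Cfsg.Agent.SuzAmCert.Model

theorem AmR.prod {G H : Type*} [Group G] [Group H] {L : ℕ → G} {L' : ℕ → H} (h : AmR L)
    (h' : AmR L') : AmR (fun n => (L n, L' n)) where
  inv := fun n hn => Prod.ext (h.inv n hn) (h'.inv n hn)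
  rel := by
    intro r hr
    rw [Held.Letters.ev_prod, h.rel r hr, h'.rel r hr]
    rfl

/-- **Identification**: letters of a group satisfying `AmR`, not all trivial, generate a copy of the
presented Suzuki group. -/
theorem exists_hom {G : Type*} [Group G] {L : ℕ → G} (h : AmR L) (hne : ∃ n < 10, L n ≠ 1) :
    ∃ f : Cfsg.Spor.Suz →* G, Function.Injective f ∧ (∀ n < 10, f (L0 n) = L n) ∧
      f.range = Subgroup.closure (L '' {n | n < 10}) := by
  haveI : IsSimpleGroup Cfsg.Spor.Suz := Cfsg.Agent.SporadicRecognition.SuzOrder.simple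
  have hc : Nat.card Cfsg.Spor.Suz = 448345497600 := Cfsg.Agent.SporadicRecognition.SuzOrder.card_Suz
  haveI : Finite Cfsg.Spor.Suz := Nat.finite_of_card_ne_zero (by rw [hc]; norm_num)
  obtain ⟨h1, h2⟩ := Bound.card_le (AmR.prod amR h)
  obtain ⟨f, hf1, hf2⟩ := Held.Letters.exists_hom L0 L 10 closure_L0 h1 (h2.trans hc.ge)
  refine ⟨f, ?_, hf1, hf2⟩
  rw [← MonoidHom.ker_eq_bot_iff]
  rcases (inferInstance : IsSimpleGroup Cfsg.Spor.Suz).eq_bot_or_eq_top_of_normal f.ker inferInstance with h3 | h3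
  · exact h3
  · exfalso
    obtain ⟨n, hn, hn1⟩ := hne
    apply hn1
    rw [← hf1 n hn]
    have : L0 n ∈ f.ker := by rw [h3]; exact Subgroup.mem_top _
    exact this

end Cfsg.Agent.SuzAmCert.Ident
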