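import Cfsg.Agent.SporadicRecognition.CosetChain

/-!
# The amalgam presentation of the Suzuki group (standard `L3(4)`, `|R| = 4`): relators as words

Letters of the group: `0 = m, 1 = n, 2 = c, 3 = a, 4 = t, 5 = t⁻¹, 6 = e, 7 = r, 8 = r⁻¹, 9 = y`.
Second table (letters `m n c a t t⁻¹ r r⁻¹ w`), third table (`m n c a t t⁻¹`), fourth table
(`c a c^n a^n c^m a^m t t⁻¹`).
-/

set_option autoImplicit false

namespace Cfsg.Agent.SuzAmCert.Rels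

open Cfsg.Agent.SporadicRecognition.CosetCert

/-- relators in the ten letters -/
def relsA : List (List ℕ) := [
  [4,4,4], [7,7,7], [4,0,4,0], [4,1,4,1], [3,4,2,5], [2,3,2,3], [6,0,6,0], [6,1,6,1], [6,2,6,2], [6,5,6,4],
  [8,0,7,0], [8,1,7,1], [8,2,7,2], [8,5,7,4], [9,2,9,2], [9,3,9,3], [6,9,6,9,2], [0,1,0,1,0,1], [2,4,2,4,2,4],
  [6,7,6,7,6,7], [5,9,4,8,9,7], [7,9,7,9,7,9], [2,1,2,1,2,1,2,1], [3,1,2,1,3,1,2,1], [2,0,2,0,2,0,2,0],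
  [3,0,2,0,3,0,2,0], [9,1,2,1,9,1,2,1], [9,1,3,1,9,1,3,1], [9,0,2,0,9,0,2,0], [9,0,3,0,9,0,3,0],
  [8,6,7,9,8,6,7,9,3], [9,0,9,0,9,0,9,3,0,3], [2,0,1,0,2,0,1,0,2,0,1,0], [9,1,9,1,9,1,9,2,3,1,2,3],
  [1,2,1,0,2,0,1,2,1,0,2,0,2], [1,3,1,0,2,0,1,3,1,0,2,0,3], [1,2,1,0,3,0,1,2,1,0,3,0,3],
  [1,3,1,0,3,0,1,3,1,0,3,0,2,3], [9,1,7,9,8,1,9,1,7,9,8,3,1,2], [9,0,7,9,8,0,9,0,7,9,8,2,0,2,3],
  [1,9,1,0,3,0,1,9,1,0,3,0,7,9,8,3,1,2,1,6], [0,9,0,1,2,1,0,9,0,1,2,1,9,3,0,3,0,8,6,7],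
  [1,9,1,0,2,0,1,9,1,0,2,0,9,2,3,1,2,3,1,7,6,8], [0,9,0,1,3,1,0,9,0,1,3,1,7,9,8,2,0,2,3,0,7,6,8],
  [1,9,1,7,0,9,0,8,1,9,1,7,0,9,0,8,1,9,1,7,0,9,0,8], [1,9,1,7,0,9,0,8,1,9,1,7,1,9,1,7,0,9,0,8,1,9,1,7]]

/-- relators in the letters `m n c a t t⁻¹ r r⁻¹ w` -/
def relsB : List (List ℕ) := [
  [4,4,4], [6,6,6], [4,0,4,0], [4,1,4,1], [3,4,2,5], [2,3,2,3], [6,0,7,0], [6,1,7,1], [6,2,7,2], [6,4,7,5],
  [8,6,8,6], [8,2,8,2], [8,3,8,3], [8,4,8,6,5], [0,1,0,1,0,1], [2,4,2,4,2,4], [2,1,2,1,2,1,2,1],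
  [3,1,2,1,3,1,2,1], [2,0,2,0,2,0,2,0], [3,0,2,0,3,0,2,0], [8,1,2,1,8,3,0,3,0], [8,0,3,0,8,3,1,2,1],
  [8,1,3,1,8,2,0,2,3,0], [8,0,2,0,8,2,3,1,2,3,1], [2,0,1,0,2,0,1,0,2,0,1,0], [8,1,0,8,0,1,8,0,1,8,1,0],
  [1,2,1,0,2,0,1,2,1,0,2,0,2], [1,3,1,0,2,0,1,3,1,0,2,0,3], [1,2,1,0,3,0,1,2,1,0,3,0,3],
  [1,3,1,0,3,0,1,3,1,0,3,0,2,3]]

/-- relators in the letters `m n c a t t⁻¹` -/
def relsD : List (List ℕ) := [
  [4,4,4], [4,0,4,0], [4,1,4,1], [3,4,2,5], [2,3,2,3], [0,1,0,1,0,1], [2,4,2,4,2,4], [2,1,2,1,2,1,2,1],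
  [3,1,2,1,3,1,2,1], [2,0,2,0,2,0,2,0], [3,0,2,0,3,0,2,0], [2,0,1,0,2,0,1,0,2,0,1,0],
  [1,2,1,0,2,0,1,2,1,0,2,0,2], [1,3,1,0,2,0,1,3,1,0,2,0,3], [1,2,1,0,3,0,1,2,1,0,3,0,3],
  [1,3,1,0,3,0,1,3,1,0,3,0,2,3]]

/-- relators in the letters `c a c^n a^n c^m a^m t t⁻¹` -/
def relsE : List (List ℕ) := [
  [6,6,6], [0,1,0,1], [0,2,0,2], [0,3,0,3], [0,4,0,4], [0,5,0,5], [1,2,1,2], [1,3,1,3], [1,4,1,4], [1,5,1,5],
  [2,3,2,3], [4,5,4,5], [6,0,7,1], [7,2,6,3], [7,4,6,5], [2,4,2,4,0], [2,5,2,5,1], [3,4,3,4,1], [6,1,7,1,0],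
  [7,3,6,3,2], [7,5,6,5,4], [3,5,3,5,0,1]]

/-- the word `w = p q p` -/
def wW : List ℕ := [1, 9, 1, 7, 0, 9, 0, 8, 1, 9, 1]

/-- the inverse of a letter -/
def inv10 (x : ℕ) : ℕ := Nat.land (Nat.shiftRight 0x9786453210 (Nat.mul 4 x)) 15

/-- the letters of the second table as words -/
def exB (x : ℕ) : List ℕ := if x < 6 then [x] else if x = 6 then [7] else if x = 7 then [8] else wW

/-- the letters of the third table as words -/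
def exD (x : ℕ) : List ℕ := [x]

/-- the letters of the fourth table as words -/
def exE : ℕ → List ℕ
  | 0 => [2]
  | 1 => [3]
  | 2 => [1, 2, 1]
  | 3 => [1, 3, 1]
  | 4 => [0, 2, 0]
  | 5 => [0, 3, 0]
  | 6 => [4]
  | _ => [5]

/-- expansion of a word -/
def expand (ex : ℕ → List ℕ) (w : List ℕ) : List ℕ := (w.map ex).flatten

/-- all relators in the ten letters -/
def relsAll : List (List ℕ) := relsA ++ (relsB.map (expand exB) ++ (relsD ++ relsE.map (expand exE)))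

variable {G : Type*} [Group G]

/-- the ten letters satisfy the relations -/
structure AmR (L : ℕ → G) : Prop where
  inv : ∀ n < 10, L n * L (inv10 n) = 1
  rel : ∀ r ∈ relsAll, ev L r = 1

theorem ev_expand (L : ℕ → G) (ex : ℕ → List ℕ) (w : List ℕ) :
    ev L (expand ex w) = ev (fun x => ev L (ex x)) w := by
  induction w with
  | nil => rfl
  | cons x w ih =>
    unfold expand at ih ⊢
    rw [List.map_cons, List.flatten_cons, ev_append, ev_cons, ih]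

theorem AmR.relA {L : ℕ → G} (h : AmR L) : ∀ r ∈ relsA, ev L r = 1 :=
  fun r hr => h.rel r (List.mem_append.mpr (Or.inl hr))

theorem AmR.relB {L : ℕ → G} (h : AmR L) : ∀ r ∈ relsB, ev (fun x => ev L (exB x)) r = 1 := by
  intro r hr
  rw [← ev_expand]
  exact h.rel _ (List.mem_append.mpr (Or.inr (List.mem_append.mpr (Or.inl (List.mem_map.mpr ⟨r, hr, rfl⟩)))))

theorem AmR.relD {L : ℕ → G} (h : AmR L) : ∀ r ∈ relsD, ev L r = 1 :=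
  fun r hr => h.rel r (List.mem_append.mpr (Or.inr (List.mem_append.mpr (Or.inr
    (List.mem_append.mpr (Or.inl hr))))))

theorem AmR.relE {L : ℕ → G} (h : AmR L) : ∀ r ∈ relsE, ev (fun x => ev L (exE x)) r = 1 := by
  intro r hr
  rw [← ev_expand]
  exact h.rel _ (List.mem_append.mpr (Or.inr (List.mem_append.mpr (Or.inr
    (List.mem_append.mpr (Or.inr (List.mem_map.mpr ⟨r, hr, rfl⟩)))))))

end Cfsg.Agent.SuzAmCert.Rels
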